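import Groth.Agent.PullbackMod.Props
import Groth.Agent.QCohLib.FPSections
import Groth.Agent.QCohLib.Push

/-! Finite presentation of direct images along finite morphisms. -/

set_option autoImplicit false
set_option linter.style.haveILetI false
set_option backward.isDefEq.respectTransparency false

universe u

open CategoryTheory CategoryTheory.Limits AlgebraicGeometry TopologicalSpace Opposite

noncomputable section

namespace Groth.Agent.FinLocFreeLib

theorem finitePresentation_restrictScalars {A B M : Type u} [CommRing A] [CommRing B] [Algebra A B]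
    [AddCommGroup M] [Module A M] [Module B M] [IsScalarTower A B M] [Module.Finite A B]
    [Module.FinitePresentation A M] : Module.FinitePresentation B M := by
  haveI : Module.Finite B M := Module.Finite.of_restrictScalars_finite A B M
  obtain ⟨n, f, hf⟩ := Module.Finite.exists_fin' B M
  refine Module.finitePresentation_of_surjective f hf ?_
  apply Submodule.FG.of_restrictScalars A
  exact Module.FinitePresentation.fg_ker (f.restrictScalars A) hf

variable {X Y : Scheme.{u}} (f : X ⟶ Y) [IsFinite f] [LocallyOfFinitePresentation f]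

theorem isFP_push_iff (F : X.Modules) [Coh.IsQCoh F] :
    CohB1.IsFP F ↔ CohB1.IsFP ((Scheme.Modules.pushforward f).obj F) := by
  let P := (Scheme.Modules.pushforward f).obj F
  haveI : Coh.IsQCoh P := QCohLib.isQCoh_pushforward F f
  have key : ∀ V : Y.Opens, IsAffineOpen V →
      (Module.FinitePresentation Γ(X, f ⁻¹ᵁ V) Γ(F, f ⁻¹ᵁ V) ↔ Module.FinitePresentation Γ(Y, V) Γ(P, V)) := by
    intro V hV
    have h1 : (f.app V).hom.Finite := IsFinite.finite_app (f := f) V hV
    have h3 : (f.app V).hom.FinitePresentation := by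
      rw [Scheme.Hom.app_eq_appLE]
      exact HasRingHomProperty.appLE @LocallyOfFinitePresentation f inferInstance ⟨V, hV⟩ ⟨f ⁻¹ᵁ V, hV.preimage f⟩ le_rfl
    algebraize [(f.app V).hom]
    letI : Module Γ(Y, V) Γ(F, f ⁻¹ᵁ V) := Module.compHom _ (f.app V).hom
    haveI : IsScalarTower Γ(Y, V) Γ(X, f ⁻¹ᵁ V) Γ(F, f ⁻¹ᵁ V) := .of_algebraMap_smul fun _ _ => rfl
    let e : Γ(F, f ⁻¹ᵁ V) ≃ₗ[Γ(Y, V)] Γ(P, V) := { AddEquiv.refl _ with map_smul' := fun _ _ => rfl }
    haveI : Module.FinitePresentation Γ(Y, V) Γ(X, f ⁻¹ᵁ V) :=
      Module.FinitePresentation.of_finite_of_finitePresentation _ _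
    constructor
    · intro h
      haveI := h
      haveI := Module.FinitePresentation.trans Γ(Y, V) Γ(F, f ⁻¹ᵁ V) Γ(X, f ⁻¹ᵁ V)
      exact Module.FinitePresentation.of_equiv e
    · intro h
      haveI := h
      haveI : Module.FinitePresentation Γ(Y, V) Γ(F, f ⁻¹ᵁ V) := Module.FinitePresentation.of_equiv e.symm
      exact finitePresentation_restrictScalars (A := Γ(Y, V))
  constructor
  · intro h
    exact PullbackMod.isFP_of_finitePresentation P (fun V : Y.affineOpens => V.1) (fun V => V.2)
      (iSup_affineOpens_eq_top Y) fun V => (key V.1 V.2).1 (QCohLib.finitePresentation_sections F h (V.2.preimage f))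
  · intro h
    refine PullbackMod.isFP_of_finitePresentation F (fun V : Y.affineOpens => f ⁻¹ᵁ V.1) (fun V => V.2.preimage f)
      ?_ fun V => (key V.1 V.2).2 (QCohLib.finitePresentation_sections P h V.2)
    rw [← Scheme.Hom.preimage_iSup, iSup_affineOpens_eq_top Y, Scheme.Hom.preimage_top]

end Groth.Agent.FinLocFreeLib
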