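import Groth.Agent.PullbackMod.FibreRank
import Groth.Agent.QCohLib.Push
import Groth.Prelude.Def_Mor2

/-! Finite locally free morphisms and their direct image of the structure sheaf. -/

set_option autoImplicit false
set_option linter.style.haveILetI false
set_option backward.isDefEq.respectTransparency false

universe u

open CategoryTheory CategoryTheory.Limits AlgebraicGeometry TopologicalSpace Opposite

noncomputable section

namespace Groth.Agent.FinLocFreeLib

variable {X S : Scheme.{u}} (f : X ⟶ S)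

theorem isFinLocFree_push (h : Mor2.IsFinLocFree f) :
    FlatMod.IsFinLocFree ((Scheme.Modules.pushforward f).obj (Coh.structureModule X)) := by
  obtain ⟨hf, hfl, hfp⟩ := h
  haveI := hf
  haveI := hfl
  haveI := hfp
  haveI : Coh.IsQCoh ((Scheme.Modules.pushforward f).obj (Coh.structureModule X)) :=
    QCohLib.isQCoh_pushforward (Coh.structureModule X) f
  refine PullbackMod.isFinLocFree_of_forall_affine _ fun {V} hV => ?_
  have h1 : (f.app V).hom.Finite := IsFinite.finite_app (f := f) V hV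
  have h2 : (f.app V).hom.Flat := by
    rw [Scheme.Hom.app_eq_appLE]; exact HasRingHomProperty.appLE @Flat f inferInstance ⟨V, hV⟩ ⟨f ⁻¹ᵁ V, hV.preimage f⟩ le_rfl
  have h3 : (f.app V).hom.FinitePresentation := by
    rw [Scheme.Hom.app_eq_appLE]; exact HasRingHomProperty.appLE @LocallyOfFinitePresentation f inferInstance ⟨V, hV⟩ ⟨f ⁻¹ᵁ V, hV.preimage f⟩ le_rfl
  algebraize [(f.app V).hom]
  let e : Γ(X, f ⁻¹ᵁ V) ≃ₗ[Γ(S, V)] Γ((Scheme.Modules.pushforward f).obj (Coh.structureModule X), V) :=
    { AddEquiv.refl _ with map_smul' := fun r s => Algebra.smul_def r s }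
  haveI : Module.FinitePresentation Γ(S, V) Γ(X, f ⁻¹ᵁ V) :=
    Module.FinitePresentation.of_finite_of_finitePresentation _ _
  haveI : Module.Projective Γ(S, V) Γ(X, f ⁻¹ᵁ V) := Module.Flat.projective_of_finitePresentation
  exact ⟨Module.Finite.equiv e, Module.Projective.of_equiv e⟩

theorem isFinLocFree_of_push [IsAffineHom f]
    (h : FlatMod.IsFinLocFree ((Scheme.Modules.pushforward f).obj (Coh.structureModule X))) :
    Mor2.IsFinLocFree f := by
  let P := (Scheme.Modules.pushforward f).obj (Coh.structureModule X)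
  haveI := (PullbackMod.isQCoh_and_isFP_of_isFinLocFree P h).1
  choose D hD n hx e using PullbackMod.exists_tilde_iso P h
  have hcov : ⨆ x, D x = ⊤ := eq_top_iff.mpr fun x _ => Opens.mem_iSup.mpr ⟨x, hx x⟩
  have key : ∀ x, (f.app (D x)).hom.Finite ∧ (f.app (D x)).hom.Flat ∧ (f.app (D x)).hom.FinitePresentation := by
    intro x
    obtain ⟨i⟩ := e x
    let eΓ := (moduleSpecΓFunctor (R := Γ(S, D x))).mapIso i ≪≫ ((tilde.toTildeΓNatIso (R := Γ(S, D x))).app _).symm
    let e' : Γ(P, D x) ≃ₗ[Γ(S, D x)] (ULift.{u} (Fin (n x)) →₀ Γ(S, D x)) :=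
      (QCohLib.topEquiv P (hD x)).symm.trans eΓ.toLinearEquiv
    algebraize [(f.app (D x)).hom]
    let e₀ : Γ(X, f ⁻¹ᵁ D x) ≃ₗ[Γ(S, D x)] Γ(P, D x) :=
      { AddEquiv.refl _ with map_smul' := fun r s => Algebra.smul_def r s }
    haveI : Module.Finite Γ(S, D x) Γ(X, f ⁻¹ᵁ D x) := Module.Finite.equiv (e₀.trans e').symm
    haveI : Module.Flat Γ(S, D x) Γ(X, f ⁻¹ᵁ D x) := Module.Flat.of_linearEquiv (e₀.trans e')
    haveI : Module.FinitePresentation Γ(S, D x) Γ(X, f ⁻¹ᵁ D x) := Module.FinitePresentation.of_equiv (e₀.trans e').symm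
    exact ⟨RingHom.finite_algebraMap.2 inferInstance, RingHom.flat_algebraMap_iff.2 inferInstance,
      RingHom.finitePresentation_algebraMap.2 (Algebra.FinitePresentation.of_finitePresentation _ _)⟩
  have hT : ∀ (Q : ∀ {A B : Type u} [CommRing A] [CommRing B], (A →+* B) → Prop), RingHom.RespectsIso Q → ∀ x,
      Q (f.app (D x)).hom → Q (f ∣_ D x).appTop.hom := fun Q hQ x hq => by
    rw [morphismRestrict_appTop, CommRingCat.hom_comp, hQ.cancel_right_isIso]
    have hT : (D x).ι ''ᵁ ⊤ = D x := Scheme.Opens.ι_image_top _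
    have gen : ∀ V : S.Opens, V = D x → Q (f.app V).hom := fun V hV => hV ▸ hq
    exact gen _ hT
  haveI : ∀ x, IsAffine (D x : Scheme.{u}) := hD
  haveI : ∀ x, IsAffine (f ⁻¹ᵁ D x : Scheme.{u}) := fun x => (hD x).preimage f
  refine ⟨?_, ?_, ?_⟩
  · refine (IsZariskiLocalAtTarget.iff_of_iSup_eq_top (P := @IsFinite) D hcov).2 fun x => ?_
    rw [HasAffineProperty.iff_of_isAffine (P := @IsFinite)]
    exact ⟨inferInstance, hT @RingHom.Finite RingHom.finite_respectsIso x (key x).1⟩
  · refine (IsZariskiLocalAtTarget.iff_of_iSup_eq_top (P := @Flat) D hcov).2 fun x => ?_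
    rw [HasRingHomProperty.iff_of_isAffine (P := @Flat)]
    exact hT @RingHom.Flat RingHom.Flat.respectsIso x (key x).2.1
  · refine (IsZariskiLocalAtTarget.iff_of_iSup_eq_top (P := @LocallyOfFinitePresentation) D hcov).2 fun x => ?_
    rw [HasRingHomProperty.iff_of_isAffine (P := @LocallyOfFinitePresentation)]
    exact hT @RingHom.FinitePresentation RingHom.finitePresentation_respectsIso x (key x).2.2

end Groth.Agent.FinLocFreeLib
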